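import Groth.Agent.L22.Inter.Cons
import Groth.Agent.L22.GV.Sober
import Groth.Prelude.Def_FGA

/-!
The intersection numbers `FGA.intNum` as mixed differences.
-/

set_option autoImplicit false
universe u

open CategoryTheory CategoryTheory.Limits AlgebraicGeometry TopologicalSpace

noncomputable section

namespace Groth.L22.Inter

open Groth.L03.Euler

variable {X : Scheme.{u}}

theorem subsingleton_HH_of_dim [IsNoetherian X] {d : ℕ} (hd : topologicalKrullDim X ≤ d) (M : X.Modules)
    {n : ℕ} (hn : d < n) : Subsingleton (Coh.HH X M n) :=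
  haveI : NoetherianSpace X.toTopCat := inferInstanceAs (NoetherianSpace X)
  Groth.L22.GV.subsingleton_H' (X := X.toTopCat) hd (Coh.toAb M) n hn

theorem eulerCharLE_eq (k : Type u) [Field k] [X.Over (Spec (CommRingCat.of k))]
    [IsProper (X ↘ Spec (CommRingCat.of k))] [IsNoetherian X] {d : ℕ}
    (hd : topologicalKrullDim X ≤ d) (M : X.Modules) :
    FGA.eulerCharLE k X M d = Curv2.euler k X M :=
  (euler_eq_sum (k := k) (N := d + 1) fun n hn => subsingleton_HH_of_dim hd M (Nat.lt_of_succ_le hn)).symm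

theorem nonempty_tensorPows_zero : ∀ {r : ℕ} (M : Fin r → X.Modules),
    Nonempty (Curv2.tensorPows (Coh.structureModule X) r M (fun _ => 0) ≅ Coh.structureModule X)
  | 0, _ => ⟨Iso.refl _⟩
  | _ + 1, M => by
    obtain ⟨e⟩ := nonempty_tensorPows_zero (fun i => M i.castSucc)
    exact ⟨Groth.L00.Tensor.tensorUnitRight _ ≪≫ e⟩

/-- Raising an exponent by `j`. -/
theorem nonempty_tensorPows_raise {r : ℕ} (M : Fin r → X.Modules) (n : Fin r → ℕ) (a : Fin r) : ∀ j : ℕ,
    Nonempty (Curv2.tensorPows (Coh.structureModule X) r M (Function.update n a (n a + j)) ≅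
      CohB1.tensorMod (Curv2.tensorPows (Coh.structureModule X) r M n) (CohB1.tensorPow (M a) j))
  | 0 => ⟨eqToIso (by rw [add_zero, Function.update_eq_self]) ≪≫ (Groth.L00.Tensor.tensorUnitRight _).symm⟩
  | j + 1 => by
    obtain ⟨e⟩ := nonempty_tensorPows_raise M n a j
    obtain ⟨e'⟩ := nonempty_tensorPows_succ M (Function.update n a (n a + j)) a
    exact ⟨eqToIso (by rw [Function.update_self, Function.update_idem, add_assoc]) ≪≫ e' ≪≫
      Groth.L00.Tensor.tensorIso e (Iso.refl _) ≪≫ Groth.L00.Tensor.tensorAssoc _ _ _⟩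

/-- Products over lists as twists. -/
theorem nonempty_tensorList {r : ℕ} (M : Fin r → X.Modules) (m : Fin r → ℕ) : ∀ l : List (Fin r), l.Nodup →
    Nonempty (FGA.tensorList (l.map fun i => CohB1.tensorPow (M i) (m i)) ≅
      Curv2.tensorPows (Coh.structureModule X) r M fun i => if i ∈ l then m i else 0)
  | [], _ => by
    obtain ⟨e⟩ := nonempty_tensorPows_zero M
    exact ⟨e.symm ≪≫ eqToIso (by simp)⟩
  | a :: l, h => by
    rw [List.nodup_cons] at h
    obtain ⟨e⟩ := nonempty_tensorList M m l h.2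
    obtain ⟨e'⟩ := nonempty_tensorPows_raise M (fun i => if i ∈ l then m i else 0) a (m a)
    refine ⟨Groth.L00.Tensor.tensorIso (Iso.refl _) e ≪≫ Groth.L00.Tensor.tensorComm _ _ ≪≫ e'.symm ≪≫ eqToIso ?_⟩
    congr 1
    funext i
    by_cases hi : i = a
    · subst hi
      rw [Function.update_self, if_neg h.1, zero_add, if_pos (List.mem_cons_self ..)]
    · rw [Function.update_of_ne hi]
      simp [hi]

theorem nonempty_tensorList_map {r : ℕ} (M : Fin r → X.Modules) : ∀ l : List (Fin r),
    Nonempty (FGA.tensorList (l.map M) ≅ FGA.tensorList (l.map fun i => CohB1.tensorPow (M i) 1))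
  | [] => ⟨Iso.refl _⟩
  | a :: l => by
    obtain ⟨e⟩ := nonempty_tensorList_map M l
    exact ⟨Groth.L00.Tensor.tensorIso (Groth.L00.Tensor.tensorUnitLeft (M a)).symm e⟩

/-- The intersection number is a mixed difference. -/
theorem intNum_eq (k : Type u) [Field k] [X.Over (Spec (CommRingCat.of k))]
    [IsProper (X ↘ Spec (CommRingCat.of k))] [IsNoetherian X] {d : ℕ}
    (hd : topologicalKrullDim X ≤ d) {r : ℕ} (M : Fin r → X.Modules) (F : X.Modules) :
    (FGA.intNum k X d M F : ℚ) = (-1) ^ r * altT k M F := by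
  classical
  let ind : Finset (Fin r) → Fin r → Fin 2 := fun I i => if i ∈ I then 1 else 0
  have hbij : Function.Bijective ind := by
    refine ⟨fun I J h => Finset.ext fun i => ?_, fun v => ⟨Finset.univ.filter fun i => v i = 1, ?_⟩⟩
    · have := congrFun h i
      simp only [ind] at this
      split_ifs at this with h1 h2 <;> simp_all
    · funext i
      simp only [ind, Finset.mem_filter, Finset.mem_univ, true_and]
      split_ifs with h <;> omega
  rw [FGA.intNum, altT, alt_apply, Finset.mul_sum, ← hbij.sum_comp]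
  push_cast
  refine Finset.sum_congr rfl fun I _ => ?_
  rw [eulerCharLE_eq k hd]
  obtain ⟨e1⟩ := nonempty_tensorList_map M (I.sort (· ≤ ·))
  obtain ⟨e2⟩ := nonempty_tensorList M (fun _ => 1) (I.sort (· ≤ ·)) (Finset.sort_nodup _ _)
  have hv : twEuler k M F (fun i => (ind I i : ℕ)) =
      (Curv2.euler k X (CohB1.tensorMod (FGA.tensorList ((I.sort (· ≤ ·)).map M)) F) : ℚ) := by
    refine congrArg (Int.cast : ℤ → ℚ) (euler_iso (Groth.L00.Tensor.tensorComm _ _ ≪≫
      Groth.L00.Tensor.tensorIso (eqToIso ?_ ≪≫ e2.symm ≪≫ e1.symm) (Iso.refl F)))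
    congr 1
    funext i
    simp only [ind, Finset.mem_sort]
    split_ifs <;> simp
  rw [hv]
  have hs : (-1 : ℚ) ^ r * sgn (ind I) = (-1 : ℚ) ^ I.card := by
    have h1 : ∀ i : Fin r, ((-1 : ℚ) * if ind I i = 1 then 1 else -1) = if i ∈ I then -1 else 1 := fun i => by
      simp only [ind]
      split_ifs <;> simp_all
    have h2 : (-1 : ℚ) ^ r = ∏ _i : Fin r, (-1 : ℚ) := by simp
    rw [h2, sgn, ← Finset.prod_mul_distrib]
    simp only [h1, Finset.prod_ite, Finset.prod_const_one, mul_one, Finset.prod_const, Finset.filter_univ_mem]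
  rw [← mul_assoc, hs]

end Groth.L22.Inter
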