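import Groth.Agent.L21.RR.Twist
import Groth.Agent.L16.CohClosedPush

/-!
The reduced closed subscheme on the closure of a point, and supports of closed subschemes.
-/

set_option autoImplicit false
universe u

open CategoryTheory CategoryTheory.Limits AlgebraicGeometry TopologicalSpace

noncomputable section

namespace Groth.L22.Inter

variable {X : Scheme.{u}}

/-- The reduced subscheme on the closure of `y`. -/
abbrev pt (y : X) : X.IdealSheafData :=
  Scheme.IdealSheafData.vanishingIdeal (⟨closure ({y} : Set X), isClosed_closure⟩ : Closeds X)

theorem range_pt (y : X) : Set.range (pt y).subschemeι = closure {y} := by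
  rw [Scheme.IdealSheafData.range_subschemeι, Groth.L18.support_vanishingIdeal]; rfl

theorem isIntegral_pt (y : X) : IsIntegral (pt y).subscheme := by
  haveI : IsReduced (pt y).subscheme := Groth.L18.isReduced_vanishingIdeal_subscheme _
  let e := (pt y).subschemeι.isEmbedding.toHomeomorph
  have hir : IsIrreducible (Set.range (pt y).subschemeι) := by
    rw [range_pt]; exact isIrreducible_singleton.closure
  haveI : IrreducibleSpace (Set.range (pt y).subschemeι) := Subtype.irreducibleSpace hir
  haveI : IrreducibleSpace (pt y).subscheme := by
    rw [irreducibleSpace_def, Set.top_eq_univ, ← Set.image_univ_of_surjective e.symm.surjective]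
    exact ((irreducibleSpace_def _).mp inferInstance).image e.symm e.symm.continuous.continuousOn
  exact isIntegral_of_irreducibleSpace_of_isReduced _

theorem genericPoint_pt (y : X) [IsIntegral (pt y).subscheme] :
    (pt y).subschemeι (genericPoint (pt y).subscheme) = y := by
  have h1 := (genericPoint_spec (pt y).subscheme).image (pt y).subschemeι.continuous
  rw [Set.image_univ, range_pt, closure_closure] at h1
  exact h1.eq isGenericPoint_closure

/-- The structure module of the reduced subscheme on the closure of a point. -/
theorem pt_facts [IsLocallyNoetherian X] (y : X) :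
    Coh.IsCoh (ClSub.quotMod (pt y)) ∧ CohB1.support (ClSub.quotMod (pt y)) ⊆ closure {y} ∧
      Groth.L16.CohSupport.len y (ClSub.quotMod (pt y)) = 1 := by
  haveI := isIntegral_pt y
  refine ⟨Groth.L21.RR.isCoh_quotMod _,
    (Groth.L16.CohClosedPush.support_push_subset (i := (pt y).subschemeι) _).trans (range_pt y).le, ?_⟩
  have := Groth.L16.CohClosedPush.len_push_structure (i := (pt y).subschemeι)
  rwa [genericPoint_pt] at this

theorem support_quotMod_subset (D : X.IdealSheafData) : CohB1.support (ClSub.quotMod D) ⊆ (D.support : Set X) := by
  rw [← Scheme.IdealSheafData.range_subschemeι]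
  exact Groth.L16.CohClosedPush.support_push_subset (i := D.subschemeι) _

end Groth.L22.Inter
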