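import Groth.Agent.L22.Inter.Cons
import Groth.Agent.L22.Inter.Point
import Groth.Agent.L03.Euler.Lead
import Groth.Agent.L19.InvOfTensor

/-!
Positivity of mixed intersection numbers of ample modules, and the effect of inverting all of them.
-/

set_option autoImplicit false
universe u

open CategoryTheory CategoryTheory.Limits AlgebraicGeometry TopologicalSpace

noncomputable section

namespace Groth.L22.Inter

open Groth.L03.Euler Groth.L16

variable (k : Type u) [Field k] {X : Scheme.{u}} [X.Over (Spec (CommRingCat.of k))]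
  [IsProper (X ↘ Spec (CommRingCat.of k))]

theorem altT_eq_sum {r : ℕ} {L : Fin r → X.Modules} (hL : ∀ i, PicF.IsInvertible (L i)) {T : Set X}
    (hT : IsClosed T) (hd : topologicalKrullDim T ≤ r) (S : Finset X)
    (hS : ∀ x, x ∈ S ↔ x ∈ T ∧ topologicalKrullDim (closure ({x} : Set X)) = (r : WithBot ℕ∞))
    (G : X → X.Modules)
    (hG : ∀ y ∈ S, Coh.IsCoh (G y) ∧ CohB1.support (G y) ⊆ closure {y} ∧ CohSupport.len y (G y) = 1)
    {F : X.Modules} (hF : Coh.IsCoh F) (hFT : CohB1.support F ⊆ T) :
    altT k L F = ∑ y ∈ S, ((CohSupport.len y F).toNat : ℚ) * altT k L (G y) := by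
  have h := alt_eq_zero le_rfl (twEuler_sub_sum_mem k hL hT hd S hS G hG hF hFT)
  rw [map_sub, map_sum, sub_eq_zero] at h
  rw [altT, h]
  exact Finset.sum_congr rfl fun y _ => by rw [map_smul, smul_eq_mul]; rfl

theorem altT_zero_eq {L : Fin 0 → X.Modules} (F : X.Modules) : altT k L F = (Curv2.euler k X F : ℚ) := by
  have h : twEuler k L F = fun _ => (Curv2.euler k X F : ℚ) :=
    funext fun n => congrArg (Int.cast : ℤ → ℚ) (euler_iso (Groth.L00.Tensor.tensorUnitRight F))
  rw [altT, h, alt_apply]
  simp [sgn]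

theorem euler_point_pos {y : X} (hy : topologicalKrullDim (closure ({y} : Set X)) = (0 : ℕ)) :
    0 < Curv2.euler k X (ClSub.quotMod (pt y)) := by
  haveI := Groth.L21.RR.isNoetherian_of_proper (X := X) k
  haveI : X.IsSeparated := ⟨by rw [← terminal.comp_from (X ↘ Spec (CommRingCat.of k))]; infer_instance⟩
  let i := (pt y).subschemeι
  haveI := isIntegral_pt y
  haveI : IsLocallyNoetherian (pt y).subscheme := LocallyOfFiniteType.isLocallyNoetherian i
  letI : (pt y).subscheme.Over (Spec (CommRingCat.of k)) := ⟨i ≫ (X ↘ Spec (CommRingCat.of k))⟩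
  haveI : IsProper ((pt y).subscheme ↘ Spec (CommRingCat.of k)) :=
    inferInstanceAs (IsProper (i ≫ (X ↘ Spec (CommRingCat.of k))))
  have hyc : closure ({y} : Set X) = {y} := by
    refine Set.Subset.antisymm (fun z hz => ?_) subset_closure
    by_contra hne
    have hne' : closure ({z} : Set X) ≠ closure {y} := fun e =>
      hne ((show IsGenericPoint z (closure {y}) from e).eq isGenericPoint_closure)
    have h1 := topologicalKrullDim_add_one_le isClosed_closure isIrreducible_singleton.closure
      (closure_minimal (Set.singleton_subset_iff.2 hz) isClosed_closure) hne'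
    rw [hy] at h1
    have h2 : (0 : WithBot ℕ∞) + 1 ≤ (0 : ℕ) :=
      (add_le_add_left (zero_le_topologicalKrullDim (Set.Nonempty.closure (Set.singleton_nonempty z))) 1).trans h1
    norm_num at h2
  haveI : Subsingleton (pt y).subscheme := ⟨fun a b => i.isClosedEmbedding.injective (by
    have ha : i a ∈ closure ({y} : Set X) := (range_pt y).le ⟨a, rfl⟩
    have hb : i b ∈ closure ({y} : Set X) := (range_pt y).le ⟨b, rfl⟩
    rw [hyc, Set.mem_singleton_iff] at ha hb
    rw [ha, hb])⟩
  rw [show Curv2.euler k X (ClSub.quotMod (pt y)) = _ from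
    euler_push i _ (CohClosedPush.isCoh_structure (X := (pt y).subscheme)).1 rfl]
  exact euler_structure_pos_of_subsingleton (k := k) (X := (pt y).subscheme)

/-- The step of the induction. -/
theorem exists_drop {y : X} {r : ℕ} (hy : topologicalKrullDim (closure ({y} : Set X)) = (r + 1 : ℕ))
    {L : X.Modules} (hL : CohB1.IsAmple L) :
    ∃ (N : ℕ) (Q : X.Modules), 0 < N ∧ Coh.IsCoh Q ∧ topologicalKrullDim (CohB1.support Q) = (r : WithBot ℕ∞) ∧
      ∀ (L' : Fin r → X.Modules), (∀ i, PicF.IsInvertible (L' i)) →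
        altT k L' Q = (N : ℚ) * altT k (Fin.cons L L') (ClSub.quotMod (pt y)) := by
  haveI := Groth.L21.RR.isNoetherian_of_proper (X := X) k
  haveI : X.IsSeparated := ⟨by rw [← terminal.comp_from (X ↘ Spec (CommRingCat.of k))]; infer_instance⟩
  let i := (pt y).subschemeι
  let G := ClSub.quotMod (pt y)
  obtain ⟨hG, hsG, hlG⟩ := pt_facts y
  haveI := isIntegral_pt y
  haveI : IsLocallyNoetherian (pt y).subscheme := LocallyOfFiniteType.isLocallyNoetherian i
  have hyG : y ∈ CohB1.support G := fun h => by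
    rw [(CohSupport.len_eq_zero_iff y G).2 fun h' => h' h] at hlG
    exact zero_ne_one hlG
  have hsG' : CohB1.support G = closure {y} :=
    hsG.antisymm (closure_minimal (Set.singleton_subset_iff.2 hyG) (CohSupport.isClosed_support _ hG.2))
  obtain ⟨n, s, hys, hsaff⟩ := hL.2.2 y
  have hN : PicF.IsInvertible (CohB1.tensorPow L (n + 1)) := Groth.L18.Ample.isInvertible_tensorPow hL.1 _
  let μ := mulSection G s
  haveI : Mono μ := CohClosedPush.mono_of_injective_generic i μ
    (bijective_mulSection G s (by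
      show i (genericPoint (pt y).subscheme) ∈ CohB1.genLocus _ s
      rw [genericPoint_pt]
      exact hys)).1
  have hGN := isCoh_tensor hN hG
  haveI : Coh.IsQCoh (CohB1.tensorMod G (CohB1.tensorPow L (n + 1))) := hGN.1
  have hkc := CohKernel.isCoh_kernel_cokernel hG hGN μ
  have hsQ := support_cokernel_mulSection hG hN s
  rw [hsG'] at hsQ
  have hne : (CohB1.support (cokernel μ)).Nonempty := by
    rw [hsQ]
    by_contra h0
    have hall : ∀ z, i z ∈ CohB1.genLocus (CohB1.tensorPow L (n + 1)) s := fun z => by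
      by_contra h1
      exact h0 ⟨i z, (range_pt y).le ⟨z, rfl⟩, h1⟩
    haveI : IsAffineHom (i ≫ (X ↘ Spec (CommRingCat.of k))) := by
      have hA : IsAffineOpen (⊤ : (pt y).subscheme.Opens) := by
        have h1 : i ⁻¹ᵁ CohB1.genLocus (CohB1.tensorPow L (n + 1)) s = ⊤ := top_le_iff.1 fun z _ => hall z
        exact h1 ▸ hsaff.preimage i
      haveI : IsAffine (pt y).subscheme := IsAffine.of_isIso (Scheme.topIso (pt y).subscheme).inv (h := hA)
      infer_instance
    haveI := subsingleton_of_proper_affine k (pt y).subscheme (i ≫ (X ↘ Spec (CommRingCat.of k)))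
    haveI : Subsingleton (closure ({y} : Set X)) := ⟨fun a b => by
      obtain ⟨u, hu⟩ := (range_pt y).ge a.2
      obtain ⟨v, hv⟩ := (range_pt y).ge b.2
      exact Subtype.ext (by rw [← hu, ← hv, Subsingleton.elim u v])⟩
    haveI : DiscreteTopology (closure ({y} : Set X)) := Subsingleton.discreteTopology
    have h0' := topologicalKrullDim_zero_of_discreteTopology (closure ({y} : Set X))
    rw [hy] at h0'
    have : r + 1 ≤ 0 := by exact_mod_cast h0'
    omega
  obtain ⟨z, hz, hmax⟩ := Devissage.exists_maximal_point (CohSupport.isClosed_support _ hkc.2.2) hne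
  have hz' := hz
  rw [hsQ] at hz'
  obtain ⟨m, hm, hm'⟩ := dim_closure_eq_add_one k hN s hys hz'.1 hz'.2 fun w hyw hws hwz =>
    hmax w (hsQ.ge ⟨hyw.mem_closure, hws⟩) hwz
  have hmr : m = r := by
    rw [hy] at hm'
    have h1 : r + 1 = m + 1 := by exact_mod_cast hm'
    omega
  subst hmr
  have hQd : topologicalKrullDim (CohB1.support (cokernel μ)) + 1 ≤ ((m + 1 : ℕ) : WithBot ℕ∞) := by
    refine le_trans (topologicalKrullDim_add_one_le (CohSupport.isClosed_support _ hkc.2.2)
      isIrreducible_singleton.closure (hsQ.le.trans Set.sdiff_subset) fun he => ?_) hy.le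
    have : y ∈ CohB1.support (cokernel μ) := he ▸ subset_closure rfl
    rw [hsQ] at this
    exact this.2 hys
  have hQle : topologicalKrullDim (CohB1.support (cokernel μ)) ≤ (m : WithBot ℕ∞) := by
    generalize topologicalKrullDim (CohB1.support (cokernel μ)) = t at hQd
    induction t using WithBot.recBotCoe with
    | bot => exact bot_le
    | coe t =>
      change ((t + 1 : ℕ∞) : WithBot ℕ∞) ≤ (((m + 1 : ℕ) : ℕ∞) : WithBot ℕ∞) at hQd
      rw [WithBot.coe_le_coe, Nat.cast_add, Nat.cast_one,
        ENat.add_le_add_iff_right (by simp)] at hQd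
      exact WithBot.coe_le_coe.2 hQd
  have hQeq : topologicalKrullDim (CohB1.support (cokernel μ)) = (m : WithBot ℕ∞) :=
    le_antisymm hQle (hm ▸ topologicalKrullDim_set_mono
      (closure_minimal (Set.singleton_subset_iff.2 hz) (CohSupport.isClosed_support _ hkc.2.2)))
  refine ⟨n + 1, cokernel μ, Nat.succ_pos _, hkc.2, hQeq, fun L' hL' => ?_⟩
  have hker : altT k L' (kernel μ) = 0 := by
    rw [altT, twEuler_of_isZero k hL' (isZero_kernel_of_mono μ), map_zero]
  have hmap := altT_map k hL' hG hGN μ
  rw [hker] at hmap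
  rw [← altT_pow k hL' hL.1 hG ((topologicalKrullDim_set_mono hsG).trans hy.le) (n + 1), altT_cons]
  linarith

/-- Mixed intersection numbers of ample modules are positive, and inverting all of them multiplies by `(-1)^r`. -/
theorem mixed : ∀ {r : ℕ} (L M : Fin r → X.Modules), (∀ i, CohB1.IsAmple (L i)) →
    (∀ i, Nonempty (CohB1.tensorMod (L i) (M i) ≅ Coh.structureModule X)) →
    ∀ {F : X.Modules}, Coh.IsCoh F → topologicalKrullDim (CohB1.support F) ≤ r →
      altT k L F = (-1) ^ r * altT k M F ∧ 0 ≤ altT k L F ∧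
        (topologicalKrullDim (CohB1.support F) = r → 0 < altT k L F) := by
  haveI := Groth.L21.RR.isNoetherian_of_proper (X := X) k
  intro r
  induction r with
  | zero =>
    intro L M _ _ F hF hd
    have hLi : ∀ i : Fin 0, PicF.IsInvertible (L i) := fun i => i.elim0
    have hT := CohSupport.isClosed_support F hF.2
    let S := (finite_top hT hd).toFinset
    have hS : ∀ x, x ∈ S ↔ x ∈ CohB1.support F ∧
        topologicalKrullDim (closure ({x} : Set X)) = ((0 : ℕ) : WithBot ℕ∞) := fun x => Set.Finite.mem_toFinset _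
    have hsum := altT_eq_sum k hLi hT hd S hS (fun y => ClSub.quotMod (pt y)) (fun y _ => pt_facts y) hF subset_rfl
    have hpos : ∀ y ∈ S, 0 < altT k L (ClSub.quotMod (pt y)) := fun y hy => by
      rw [altT_zero_eq]
      exact_mod_cast euler_point_pos k ((hS y).1 hy).2
    refine ⟨by rw [altT_zero_eq, altT_zero_eq, pow_zero, one_mul], ?_, fun he => ?_⟩
    · rw [hsum]
      exact Finset.sum_nonneg fun y hy => mul_nonneg (Nat.cast_nonneg _) (hpos y hy).le
    · rw [hsum]
      obtain ⟨y, hyF, hyd⟩ := exists_point_dim_closure_ge hT he.ge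
      have hyS : y ∈ S := (hS y).2 ⟨hyF, le_antisymm
        ((topologicalKrullDim_set_mono (closure_minimal (Set.singleton_subset_iff.2 hyF) hT)).trans hd) hyd⟩
      refine Finset.sum_pos' (fun y hy => mul_nonneg (Nat.cast_nonneg _) (hpos y hy).le) ⟨y, hyS, ?_⟩
      refine mul_pos (Nat.cast_pos.2 (Nat.pos_of_ne_zero fun h0 => ?_)) (hpos y hyS)
      rcases ENat.toNat_eq_zero.1 h0 with h | h
      · exact (CohSupport.len_eq_zero_iff y F).1 h hyF
      · exact CohSupport.len_ne_top hF (fun z hz hzy => eq_of_specializes_top hT hd ((hS y).1 hyS).2 hz hzy) h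
  | succ r ih =>
    intro L M hL hLM F hF hd
    have hLi : ∀ i, PicF.IsInvertible (L i) := fun i => (hL i).1
    have hMi : ∀ i, PicF.IsInvertible (M i) := fun i => by
      obtain ⟨e⟩ := hLM i
      exact Groth.L19.InvOfTensor.isInvertible (Groth.L00.Tensor.tensorComm (M i) (L i) ≪≫ e)
    have hT := CohSupport.isClosed_support F hF.2
    let S := (finite_top hT hd).toFinset
    have hS : ∀ x, x ∈ S ↔ x ∈ CohB1.support F ∧
        topologicalKrullDim (closure ({x} : Set X)) = ((r + 1 : ℕ) : WithBot ℕ∞) := fun x => Set.Finite.mem_toFinset _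
    have hLsum := altT_eq_sum k hLi hT hd S hS (fun y => ClSub.quotMod (pt y)) (fun y _ => pt_facts y) hF subset_rfl
    have hMsum := altT_eq_sum k hMi hT hd S hS (fun y => ClSub.quotMod (pt y)) (fun y _ => pt_facts y) hF subset_rfl
    have key : ∀ y ∈ S, 0 < altT k L (ClSub.quotMod (pt y)) ∧
        altT k L (ClSub.quotMod (pt y)) = (-1) ^ (r + 1) * altT k M (ClSub.quotMod (pt y)) := by
      intro y hy
      obtain ⟨N, Q, hN, hQ, hQd, hQeq⟩ := exists_drop k ((hS y).1 hy).2 (hL 0)
      obtain ⟨e1, -, e3⟩ := ih (fun j => L j.succ) (fun j => M j.succ) (fun j => hL _) (fun j => hLM _) hQ hQd.le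
      have hGd : topologicalKrullDim (CohB1.support (ClSub.quotMod (pt y))) ≤ (r + 1 : ℕ) :=
        (topologicalKrullDim_set_mono (pt_facts y).2.1).trans ((hS y).1 hy).2.le
      have hL' : ∀ j : Fin r, PicF.IsInvertible (L j.succ) := fun j => hLi _
      have hM' : ∀ j : Fin r, PicF.IsInvertible (M j.succ) := fun j => hMi _
      have hQL : altT k (fun j => L j.succ) Q = (N : ℚ) * altT k L (ClSub.quotMod (pt y)) := by
        have := hQeq _ hL'
        rwa [show Fin.cons (L 0) (fun j => L j.succ) = L from Fin.cons_self_tail L] at this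
      have hQM := hQeq _ hM'
      have hflip : altT k (Fin.cons (L 0) fun j => M j.succ) (ClSub.quotMod (pt y)) =
          - altT k M (ClSub.quotMod (pt y)) := by
        obtain ⟨e⟩ := hLM 0
        have hadd := altT_add k hM' (hLi 0) (hMi 0) (pt_facts y).1 hGd
        rw [altT_slot_congr k e, altT_unit,
          show Fin.cons (M 0) (fun j => M j.succ) = M from Fin.cons_self_tail M] at hadd
        linarith
      have hN' : (0 : ℚ) < N := Nat.cast_pos.2 hN
      refine ⟨pos_of_mul_pos_right (hQL ▸ e3 hQd) hN'.le, ?_⟩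
      rw [hQL, hQM, hflip] at e1
      refine mul_left_cancel₀ hN'.ne' ?_
      rw [e1, pow_succ]
      ring
    refine ⟨?_, ?_, fun he => ?_⟩
    · rw [hLsum, hMsum, Finset.mul_sum]
      exact Finset.sum_congr rfl fun y hy => by rw [(key y hy).2]; ring
    · rw [hLsum]
      exact Finset.sum_nonneg fun y hy => mul_nonneg (Nat.cast_nonneg _) (key y hy).1.le
    · rw [hLsum]
      obtain ⟨y, hyF, hyd⟩ := exists_point_dim_closure_ge hT he.ge
      have hyS : y ∈ S := (hS y).2 ⟨hyF, le_antisymm
        ((topologicalKrullDim_set_mono (closure_minimal (Set.singleton_subset_iff.2 hyF) hT)).trans hd) hyd⟩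
      refine Finset.sum_pos' (fun y hy => mul_nonneg (Nat.cast_nonneg _) (key y hy).1.le) ⟨y, hyS, ?_⟩
      refine mul_pos (Nat.cast_pos.2 (Nat.pos_of_ne_zero fun h0 => ?_)) (key y hyS).1
      rcases ENat.toNat_eq_zero.1 h0 with h | h
      · exact (CohSupport.len_eq_zero_iff y F).1 h hyF
      · exact CohSupport.len_ne_top hF (fun z hz hzy => eq_of_specializes_top hT hd ((hS y).1 hyS).2 hz hzy) h

end Groth.L22.Inter
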