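import Groth.Agent.L22.Inter.Push
import Groth.Agent.L17.Approx.RestrictFP
import Groth.Agent.L00.TensorRestrict
import Groth.Agent.L29.DCoh.RelBC
import Groth.Agent.L07.FibreDimSemi
import Groth.Agent.L20.ResDescent

/-!
# Families of twists: finite presentation, flatness, pullback to fibres, fibre dimension
-/

set_option autoImplicit false
set_option linter.style.haveILetI false
set_option backward.isDefEq.respectTransparency false

universe u

open CategoryTheory CategoryTheory.Limits AlgebraicGeometry TopologicalSpace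

namespace Groth.L22.Inter.FlatTwist

variable {X S : Scheme.{u}}

/-- Twisting by an invertible module preserves finite presentation. -/
theorem isFP_tensor {M L : X.Modules} (hM : CohB1.IsFP M) (hL : PicF.IsInvertible L) :
    CohB1.IsFP (CohB1.tensorMod M L) := by
  haveI : Coh.IsQCoh M := { nonempty_quasicoherentData := ⟨hM.exists_quasicoherentData.choose⟩ }
  refine Groth.L19.isFP_of_tilde_charts _ fun z => ?_
  obtain ⟨U, hzU, ⟨τ⟩⟩ := hL z
  obtain ⟨_, ⟨V, hV, rfl⟩, hxV, hVU⟩ :=
    X.isBasis_affineOpens.exists_subset_of_mem_open (show z ∈ U from hzU) U.2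
  obtain ⟨g, hxg, P, hP⟩ := Groth.L20.ModStalk.exists_presentation_near M hM hV hxV
  haveI := hP
  let c := (hV.basicOpen g).fromSpec
  haveI : (M.restrict c).IsQuasicoherent := Scheme.Modules.isQuasicoherent_restrictFunctor c M
  haveI := Groth.L20.ModStalk.finitePresentation_sections_spec (M.restrict c) P
  have hr : Set.range c ⊆ Set.range U.ι := by
    rw [(hV.basicOpen g).range_fromSpec, Scheme.Opens.range_ι]
    exact fun x hx => hVU (X.basicOpen_le g hx)
  let l : Spec Γ(X, X.basicOpen g) ⟶ U := IsOpenImmersion.lift U.ι c hr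
  have hl : l ≫ U.ι = c := IsOpenImmersion.lift_fac _ _ _
  haveI : IsOpenImmersion (l ≫ U.ι) := hl ▸ inferInstance
  haveI : IsOpenImmersion l := IsOpenImmersion.of_comp l U.ι
  let ε : L.restrict c ≅ Coh.structureModule (Spec Γ(X, X.basicOpen g)) :=
    ((Scheme.Modules.restrictFunctorCongr hl).symm ≪≫ Scheme.Modules.restrictFunctorComp l U.ι).app L ≪≫
      (Scheme.Modules.restrictFunctor l).mapIso τ ≪≫ Scheme.Modules.restrictUnitIso l
  refine ⟨Γ(X, X.basicOpen g), c, inferInstance, (moduleSpecΓFunctor (R := Γ(X, X.basicOpen g))).obj (M.restrict c),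
    ?_, inferInstance, ⟨(Groth.L00.Tensor.tensorRestrict (j := c) (M := M) (N := L)).symm ≪≫
      Groth.L00.Tensor.tensorIso (Iso.refl _) ε ≪≫ Groth.L00.Tensor.tensorUnitRight _ ≪≫
      (asIso (M.restrict c).fromTildeΓ).symm⟩⟩
  show z ∈ c.opensRange
  rw [(hV.basicOpen g).opensRange_fromSpec]
  exact hxg

/-- Finite presentation is invariant under isomorphism. -/
theorem isFP_of_iso {M N : X.Modules} (e : M ≅ N) (h : CohB1.IsFP M) : CohB1.IsFP N := by
  haveI : Coh.IsQCoh M := { nonempty_quasicoherentData := ⟨h.exists_quasicoherentData.choose⟩ }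
  refine Groth.L19.isFP_of_tilde_charts _ fun z => ?_
  obtain ⟨_, ⟨V, hV, rfl⟩, hxV, -⟩ :=
    X.isBasis_affineOpens.exists_subset_of_mem_open (Set.mem_univ z) isOpen_univ
  obtain ⟨g, hxg, P, hP⟩ := Groth.L20.ModStalk.exists_presentation_near M h hV hxV
  haveI := hP
  let c := (hV.basicOpen g).fromSpec
  haveI : (M.restrict c).IsQuasicoherent := Scheme.Modules.isQuasicoherent_restrictFunctor c M
  haveI := Groth.L20.ModStalk.finitePresentation_sections_spec (M.restrict c) P
  refine ⟨Γ(X, X.basicOpen g), c, inferInstance, (moduleSpecΓFunctor (R := Γ(X, X.basicOpen g))).obj (M.restrict c),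
    ?_, inferInstance, ⟨(Scheme.Modules.restrictFunctor c).mapIso e.symm ≪≫ (asIso (M.restrict c).fromTildeΓ).symm⟩⟩
  show z ∈ c.opensRange
  rw [(hV.basicOpen g).opensRange_fromSpec]
  exact hxg

/-- Twisting by an invertible module preserves flatness over the base. -/
theorem isFlatOver_tensor (f : X ⟶ S) {M L : X.Modules} (hM : FlatMod.IsFlatOver f M) (hL : PicF.IsInvertible L) :
    FlatMod.IsFlatOver f (CohB1.tensorMod M L) := fun x => by
  obtain ⟨e⟩ := Groth.L03.Euler.nonempty_stalk_tensor hL M x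
  let R := ModuleCat.restrictScalars.{u} (f.stalkMap x).hom
  haveI : Module.Flat (S.presheaf.stalk (f x)) (R.obj ((Groth.L00.Stk.F X x).obj M)) := hM x
  exact (Module.Flat.of_linearEquiv (R.mapIso e.toModuleIso).symm.toLinearEquiv :
    Module.Flat (S.presheaf.stalk (f x)) (R.obj ((Groth.L00.Stk.F X x).obj (CohB1.tensorMod M L))))

/-- Pullback of a twist of a module is the twist of the pullback. -/
theorem nonempty_pullback_tensorPows' {Z : Scheme.{u}} (f : Z ⟶ X) (F : X.Modules) {r : ℕ}
    (L : Fin r → X.Modules) (n : Fin r → ℕ) :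
    Nonempty ((Scheme.Modules.pullback f).obj (Curv2.tensorPows F r L n) ≅
      Curv2.tensorPows ((Scheme.Modules.pullback f).obj F) r (fun i => (Scheme.Modules.pullback f).obj (L i)) n) := by
  obtain ⟨e⟩ := Groth.L03.Euler.nonempty_tensorPows_iso F L n
  obtain ⟨e'⟩ := Groth.L03.Euler.nonempty_tensorPows_iso ((Scheme.Modules.pullback f).obj F)
    (fun i => (Scheme.Modules.pullback f).obj (L i)) n
  obtain ⟨π⟩ := Groth.L22.Inter.nonempty_pullback_tensorPows f L n
  exact ⟨(Scheme.Modules.pullback f).mapIso e ≪≫ (Groth.L29.DC.PullTensor.pullTensor f _ _).symm ≪≫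
    Groth.L00.Tensor.tensorIso (Iso.refl _) π ≪≫ e'.symm⟩

/-- The fibres of a proper morphism have bounded dimension near each point. -/
theorem exists_dim_bound (f : X ⟶ S) [IsProper f] (s : S) :
    ∃ (N : ℕ) (U : S.Opens), s ∈ U ∧ ∀ s' ∈ U, topologicalKrullDim (f.fiber s') ≤ (N : WithBot ℕ∞) := by
  classical
  let Z : Scheme.{u} := f.fiber s
  letI : Z.Over (Spec (CommRingCat.of (S.residueField s))) := ⟨f.fiberToSpecResidueField s⟩
  haveI : IsProper (f.fiberToSpecResidueField s) := MorphismProperty.pullback_snd _ _ inferInstance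
  haveI : LocallyOfFiniteType (Z ↘ Spec (CommRingCat.of (S.residueField s))) :=
    MorphismProperty.pullback_snd (P := @LocallyOfFiniteType) _ _ inferInstance
  letI : ∀ b, Algebra (S.residueField s) (Z.residueField b) := fun b => Curv2.resAlgebra (S.residueField s) Z b
  haveI : CompactSpace Z := QuasiCompact.compactSpace_of_compactSpace (f.fiberToSpecResidueField s)
  have hloc : ∀ z : Z, ∃ (U : Z.Opens) (n : ℕ), z ∈ U ∧ topologicalKrullDim (U : Set Z) ≤ (n : WithBot ℕ∞) := by
    intro z
    obtain ⟨a, b, -, -, h⟩ := Groth.L22.SchemeDim.exists_localDim (S.residueField s) Z z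
    haveI : Nonempty {U : Opens Z // z ∈ U} := ⟨⟨⊤, trivial⟩⟩
    obtain ⟨⟨U, hU⟩, hdim⟩ := ciInf_mem (fun U : {U : Opens Z // z ∈ U} =>
      topologicalKrullDim ((U.1 : Set Z) : Set Z))
    exact ⟨U, a + b, hU, (hdim.trans h).le⟩
  choose U n hzU hn using hloc
  obtain ⟨t, ht⟩ := isCompact_univ.elim_finite_subcover (fun z : Z => (U z : Set Z)) (fun z => (U z).2)
    fun z _ => Set.mem_iUnion.2 ⟨z, hzU z⟩
  have hN : topologicalKrullDim Z ≤ ((t.sup n : ℕ) : WithBot ℕ∞) := by
    refine Groth.L07.FibreDim.dim_le_of_localDim_le _ fun z => ?_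
    obtain ⟨w, hw, hzw⟩ := Set.mem_iUnion₂.1 (ht (Set.mem_univ z))
    exact iInf_le_of_le ⟨U w, hzw⟩ ((hn w).trans (by exact_mod_cast Finset.le_sup (f := n) hw))
  exact ⟨t.sup n, ⟨_, Groth.L07.FibreDim.isOpen_fiber_dim_le f f.isClosedMap _⟩, hN, fun s' hs' => hs'⟩

end Groth.L22.Inter.FlatTwist
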