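import Groth.Agent.L03.Euler.PolyFun
import Mathlib.Algebra.MvPolynomial.Funext
import Mathlib.Algebra.MvPolynomial.Eval

/-!
The coefficient of `n_1 ⋯ n_r` of a polynomial of degree at most `r` as a mixed difference.
-/

set_option autoImplicit false

noncomputable section

namespace Groth.L22.Inter

open Groth.L03.Euler

variable {r : ℕ}

/-- The sign of a corner of the unit cube. -/
def sgn (v : Fin r → Fin 2) : ℚ := ∏ i, if v i = 1 then (1 : ℚ) else -1

/-- The mixed difference at the origin. -/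
def alt : ((Fin r → ℕ) → ℚ) →ₗ[ℚ] ℚ where
  toFun f := ∑ v : Fin r → Fin 2, sgn v * f (fun i => (v i : ℕ))
  map_add' f g := by simp [mul_add, Finset.sum_add_distrib]
  map_smul' c f := by simp [Finset.mul_sum, mul_left_comm]

theorem alt_apply (f : (Fin r → ℕ) → ℚ) : alt f = ∑ v : Fin r → Fin 2, sgn v * f (fun i => (v i : ℕ)) := rfl

theorem alt_monFun (a : Fin r → ℕ) : alt (monFun a) = ∏ i, ((1 : ℚ) ^ a i - (0 : ℚ) ^ a i) := by
  have h : ∀ i, ((1 : ℚ) ^ a i - (0 : ℚ) ^ a i) =
      ∑ b : Fin 2, (if b = 1 then (1 : ℚ) else -1) * ((b : ℕ) : ℚ) ^ a i := fun i => by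
    rw [Fin.sum_univ_two]
    simp
    ring
  simp only [h]
  rw [alt_apply, Fintype.prod_sum]
  refine Finset.sum_congr rfl fun v _ => ?_
  rw [sgn, monFun, Finset.prod_mul_distrib]

theorem alt_monFun_of_zero (a : Fin r → ℕ) (h : ∃ i, a i = 0) : alt (monFun a) = 0 := by
  obtain ⟨i, hi⟩ := h
  rw [alt_monFun]
  exact Finset.prod_eq_zero (Finset.mem_univ i) (by simp [hi])

theorem exists_zero_of_sum {a : Fin r → ℕ} (h : ∑ i, a i ≤ r) (h1 : a ≠ fun _ => 1) : ∃ i, a i = 0 := by
  by_contra hc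
  push Not at hc
  refine h1 (funext fun i => ?_)
  have h2 : ∀ j ∈ Finset.univ, 1 ≤ a j := fun j _ => Nat.pos_of_ne_zero (hc j)
  have h3 : ∑ _j : Fin r, 1 = ∑ j, a j :=
    le_antisymm (Finset.sum_le_sum h2) (by simpa using h)
  exact ((Finset.sum_eq_sum_iff_of_le h2).1 h3 i (Finset.mem_univ i)).symm

/-- Lower degree terms do not contribute. -/
theorem alt_eq_zero {d : ℕ} (hd : d ≤ r) {f : (Fin r → ℕ) → ℚ} (hf : f ∈ polyFun r d) : alt f = 0 := by
  induction hf using Submodule.span_induction with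
  | mem f hf =>
    obtain ⟨a, ha, rfl⟩ := hf
    simp only [Set.mem_ofPred_eq] at ha
    refine alt_monFun_of_zero a (exists_zero_of_sum (ha.le.trans hd) fun e => ?_)
    rw [e] at ha
    simp at ha
    omega
  | zero => exact map_zero _
  | add f g _ _ hf hg => rw [map_add, hf, hg, add_zero]
  | smul c f _ hf => rw [map_smul, hf, smul_zero]

/-- Polynomial representatives with all the data. -/
theorem exists_mvPolynomial' {d : ℕ} {f : (Fin r → ℕ) → ℚ} (hf : f ∈ polyFun r d) :
    ∃ P : MvPolynomial (Fin r) ℚ, (∀ m ∈ P.support, (m.sum fun _ e => e) < d) ∧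
      (∀ n, f n = MvPolynomial.eval (fun i => (n i : ℚ)) P) ∧
      (d ≤ r + 1 → MvPolynomial.coeff (Finsupp.equivFunOnFinite.symm fun _ : Fin r => 1) P = alt f) := by
  classical
  induction hf using Submodule.span_induction with
  | mem f hf =>
    obtain ⟨a, ha, rfl⟩ := hf
    simp only [Set.mem_ofPred_eq] at ha
    refine ⟨MvPolynomial.monomial (Finsupp.equivFunOnFinite.symm a) 1, fun m hm => ?_, fun n => ?_, fun hd => ?_⟩
    · rw [Finset.mem_singleton.1 (MvPolynomial.support_monomial_subset hm), Finsupp.sum_fintype _ _ (by simp)]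
      simpa using ha
    · rw [MvPolynomial.eval_monomial, Finsupp.prod_fintype _ _ (by simp), one_mul]
      simp [monFun]
    · rw [MvPolynomial.coeff_monomial]
      by_cases h1 : a = fun _ => 1
      · subst h1
        rw [if_pos rfl, alt_monFun]
        simp
      · rw [if_neg fun e => h1 (Finsupp.equivFunOnFinite.symm.injective e),
          alt_monFun_of_zero a (exists_zero_of_sum (by omega) h1)]
  | zero => exact ⟨0, by simp, fun n => by simp, fun _ => by simp⟩
  | add f g _ _ hf hg =>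
    obtain ⟨P, hP, hP', hP''⟩ := hf
    obtain ⟨Q, hQ, hQ', hQ''⟩ := hg
    refine ⟨P + Q, fun m hm => ?_, fun n => by simp [hP', hQ'], fun hd => by
      rw [MvPolynomial.coeff_add, hP'' hd, hQ'' hd, map_add]⟩
    rcases Finset.mem_union.1 (MvPolynomial.support_add hm) with h | h
    · exact hP m h
    · exact hQ m h
  | smul c f _ hf =>
    obtain ⟨P, hP, hP', hP''⟩ := hf
    refine ⟨c • P, fun m hm => hP m (MvPolynomial.support_smul hm), fun n => by simp [hP'], fun hd => by
      rw [MvPolynomial.coeff_smul, hP'' hd, map_smul]⟩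

/-- A polynomial is determined by its values on `ℕ^r`. -/
theorem ext_of_nat {P Q : MvPolynomial (Fin r) ℚ}
    (h : ∀ n : Fin r → ℕ, MvPolynomial.eval (fun i => (n i : ℚ)) P = MvPolynomial.eval (fun i => (n i : ℚ)) Q) :
    P = Q := by
  refine MvPolynomial.funext_set (fun _ => Set.range (Nat.cast : ℕ → ℚ))
    (fun _ => Set.infinite_range_of_injective Nat.cast_injective) fun x hx => ?_
  choose n hn using fun i => hx i (Set.mem_univ i)
  rw [show x = fun i => (n i : ℚ) from funext fun i => (hn i).symm]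
  exact h n

/-- The coefficient of `n_1 ⋯ n_r`. -/
theorem coeff_eq_alt {f : (Fin r → ℕ) → ℚ} (hf : f ∈ polyFun r (r + 1)) {P : MvPolynomial (Fin r) ℚ}
    (hP : ∀ n, f n = MvPolynomial.eval (fun i => (n i : ℚ)) P) :
    MvPolynomial.coeff (Finsupp.equivFunOnFinite.symm fun _ : Fin r => 1) P = alt f := by
  obtain ⟨Q, -, hQ, hQ'⟩ := exists_mvPolynomial' hf
  rw [ext_of_nat fun n => (hP n).symm.trans (hQ n), hQ' le_rfl]

/-- The mixed difference of an integer valued function is an integer. -/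
theorem exists_int_alt (g : (Fin r → ℕ) → ℤ) : ∃ z : ℤ, alt (fun n => (g n : ℚ)) = (z : ℚ) :=
  ⟨∑ v : Fin r → Fin 2, (∏ i, if v i = 1 then (1 : ℤ) else -1) * g (fun i => (v i : ℕ)), by
    rw [alt_apply]
    push_cast
    exact Finset.sum_congr rfl fun v _ => by rw [sgn]⟩

/-- Splitting off the first variable. -/
theorem alt_succ (f : (Fin (r + 1) → ℕ) → ℚ) :
    alt f = alt (fun n => f (Fin.cons 1 n)) - alt (fun n => f (Fin.cons 0 n)) := by
  rw [alt_apply, alt_apply, alt_apply, ← Equiv.sum_comp (Fin.consEquiv fun _ : Fin (r + 1) => Fin 2),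
    Fintype.sum_prod_type, Fin.sum_univ_two]
  have h : ∀ (b : Fin 2) (v : Fin r → Fin 2),
      sgn (Fin.cons b v : Fin (r + 1) → Fin 2) = (if b = 1 then (1 : ℚ) else -1) * sgn v := fun b v => by
    rw [sgn, Fin.prod_univ_succ]
    simp [sgn]
  have hc : ∀ (b : Fin 2) (v : Fin r → Fin 2),
      (fun i => ((Fin.cons b v : Fin (r + 1) → Fin 2) i : ℕ)) = Fin.cons (b : ℕ) fun i => (v i : ℕ) := fun b v => by
    funext i
    refine Fin.cases ?_ (fun j => ?_) i <;> simp
  simp only [Fin.consEquiv, Equiv.coe_fn_mk, h, hc]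
  simp
  ring

end Groth.L22.Inter
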