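import Groth.Agent.L22.Inter.Top
import Groth.Agent.L22.Inter.Coeff

/-!
Recursion and additivity of mixed differences of twisted Euler characteristics.
-/

set_option autoImplicit false
universe u

open CategoryTheory CategoryTheory.Limits AlgebraicGeometry TopologicalSpace

noncomputable section

namespace Groth.L22.Inter

open Groth.L03.Euler

variable {X : Scheme.{u}}

theorem cons_castSucc {r : ℕ} (b : ℕ) (n : Fin (r + 1) → ℕ) :
    (fun j : Fin (r + 1) => (Fin.cons b n : Fin (r + 2) → ℕ) j.castSucc) = Fin.cons b fun j : Fin r => n j.castSucc := by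
  funext j
  refine Fin.cases ?_ (fun j => ?_) j
  · simp
  · rw [← Fin.succ_castSucc]
    simp

/-- A zero exponent can be dropped. -/
theorem nonempty_tensorPows_cons : ∀ {r : ℕ} (L : Fin (r + 1) → X.Modules) (n : Fin r → ℕ),
    Nonempty (Curv2.tensorPows (Coh.structureModule X) (r + 1) L (Fin.cons 0 n) ≅
      Curv2.tensorPows (Coh.structureModule X) r (fun j => L j.succ) n)
  | 0, L, n => ⟨Groth.L00.Tensor.tensorUnitLeft _⟩
  | r + 1, L, n => by
    obtain ⟨e⟩ := nonempty_tensorPows_cons (fun i => L i.castSucc) (fun i => n i.castSucc)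
    simp only [Curv2.tensorPows]
    have h1 : (Fin.cons 0 n : Fin (r + 2) → ℕ) (Fin.last (r + 1)) = n (Fin.last r) := by
      rw [← Fin.succ_last, Fin.cons_succ]
    have h2 : (fun j : Fin r => L j.succ.castSucc) = fun j => L j.castSucc.succ := by
      funext j
      rw [Fin.succ_castSucc]
    rw [h1]
    refine ⟨Groth.L00.Tensor.tensorIso (eqToIso ?_ ≪≫ e ≪≫ eqToIso ?_) (eqToIso (by rw [Fin.succ_last]))⟩
    · exact (congrArg (fun m => Curv2.tensorPows (Coh.structureModule X) (r + 1) (fun i => L i.castSucc) m)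
        (cons_castSucc 0 n))
    · rw [h2]

variable (k : Type u) [Field k] [X.Over (Spec (CommRingCat.of k))] {r : ℕ}

/-- The mixed difference of `χ(F ⊗ L^n)`. -/
def altT (L : Fin r → X.Modules) (F : X.Modules) : ℚ := alt (twEuler k L F)

theorem altT_iso (L : Fin r → X.Modules) {F G : X.Modules} (e : F ≅ G) : altT k L F = altT k L G := by
  rw [altT, altT, twEuler_iso k L e]

theorem twEuler_cons_zero (L : Fin (r + 1) → X.Modules) (M : X.Modules) (n : Fin r → ℕ) :
    twEuler k L M (Fin.cons 0 n) = twEuler k (fun j => L j.succ) M n := by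
  obtain ⟨i⟩ := nonempty_tensorPows_cons L n
  exact congrArg (Int.cast : ℤ → ℚ) (euler_iso (Groth.L00.Tensor.tensorIso (Iso.refl M) i))

theorem twEuler_cons_one (L : Fin (r + 1) → X.Modules) (M : X.Modules) (n : Fin r → ℕ) :
    twEuler k L M (Fin.cons 1 n) = twEuler k (fun j => L j.succ) (CohB1.tensorMod M (L 0)) n := by
  have h := twEuler_shift k L M (Fin.cons 0 n) 0
  rw [Fin.cons_zero, Fin.update_cons_zero] at h
  rw [h, twEuler_cons_zero]

theorem altT_succ (L : Fin (r + 1) → X.Modules) (M : X.Modules) :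
    altT k L M = altT k (fun j => L j.succ) (CohB1.tensorMod M (L 0)) - altT k (fun j => L j.succ) M := by
  simp only [altT, alt_succ, twEuler_cons_one, twEuler_cons_zero]

theorem altT_cons (A : X.Modules) (L : Fin r → X.Modules) (M : X.Modules) :
    altT k (Fin.cons A L) M = altT k L (CohB1.tensorMod M A) - altT k L M := by
  rw [altT_succ]
  simp only [Fin.cons_zero, Fin.cons_succ]

variable [IsProper (X ↘ Spec (CommRingCat.of k))]

theorem altT_eq_zero {L : Fin r → X.Modules} (hL : ∀ i, PicF.IsInvertible (L i)) {F : X.Modules}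
    (hF : Coh.IsCoh F) (h : topologicalKrullDim (CohB1.support F) + 1 ≤ r) : altT k L F = 0 :=
  alt_eq_zero le_rfl (twEuler_mem k hL r F hF h)

theorem altT_map {L : Fin r → X.Modules} (hL : ∀ i, PicF.IsInvertible (L i)) {A B : X.Modules}
    (hA : Coh.IsCoh A) (hB : Coh.IsCoh B) (a : A ⟶ B) :
    altT k L A - altT k L B = altT k L (kernel a) - altT k L (cokernel a) := by
  simp only [altT, ← map_sub, twEuler_map k hL hA hB a]

/-- Additivity in a slot. -/
theorem altT_add {L : Fin r → X.Modules} (hL : ∀ i, PicF.IsInvertible (L i)) {A B : X.Modules}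
    (hA : PicF.IsInvertible A) (hB : PicF.IsInvertible B) {F : X.Modules} (hF : Coh.IsCoh F)
    (h : topologicalKrullDim (CohB1.support F) ≤ (r + 1 : ℕ)) :
    altT k (Fin.cons (CohB1.tensorMod A B) L) F = altT k (Fin.cons A L) F + altT k (Fin.cons B L) F := by
  have hL2 : ∀ i, PicF.IsInvertible ((Fin.cons A (Fin.cons B L) : Fin (r + 2) → X.Modules) i) :=
    Fin.cases (by simpa using hA) (Fin.cases (by simpa using hB) fun i => by simpa using hL i)
  have h0 : altT k (Fin.cons A (Fin.cons B L)) F = 0 :=
    altT_eq_zero k hL2 hF ((add_le_add_left h 1).trans (by norm_cast))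
  rw [altT_cons, altT_cons, altT_cons] at h0
  rw [altT_cons, altT_cons, altT_cons, altT_iso k L (Groth.L00.Tensor.tensorAssoc F A B).symm]
  linarith

theorem altT_unit {L : Fin r → X.Modules} (F : X.Modules) :
    altT k (Fin.cons (Coh.structureModule X) L) F = 0 := by
  rw [altT_cons, altT_iso k L (Groth.L00.Tensor.tensorUnitRight F), sub_self]

theorem altT_slot_congr {A B : X.Modules} (e : A ≅ B) (L : Fin r → X.Modules) (F : X.Modules) :
    altT k (Fin.cons A L) F = altT k (Fin.cons B L) F := by
  rw [altT_cons, altT_cons, altT_iso k L (Groth.L00.Tensor.tensorIso (Iso.refl F) e)]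

/-- Powers in a slot. -/
theorem altT_pow {L : Fin r → X.Modules} (hL : ∀ i, PicF.IsInvertible (L i)) {A : X.Modules}
    (hA : PicF.IsInvertible A) {F : X.Modules} (hF : Coh.IsCoh F)
    (h : topologicalKrullDim (CohB1.support F) ≤ (r + 1 : ℕ)) : ∀ N : ℕ,
    altT k (Fin.cons (CohB1.tensorPow A N) L) F = N * altT k (Fin.cons A L) F
  | 0 => by rw [show CohB1.tensorPow A 0 = Coh.structureModule X from rfl, altT_unit]; simp
  | N + 1 => by
    rw [show CohB1.tensorPow A (N + 1) = CohB1.tensorMod (CohB1.tensorPow A N) A from rfl,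
      altT_add k hL (Groth.L18.Ample.isInvertible_tensorPow hA N) hA hF h, altT_pow hL hA hF h N]
    push_cast
    ring

end Groth.L22.Inter
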