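import Groth.Agent.L03.Euler.Poly
import Groth.Agent.L16.CohClosedPush

/-!
Twisted Euler characteristics modulo polynomials of smaller degree: dévissage to top dimensional points.
-/

set_option autoImplicit false
universe u

open CategoryTheory CategoryTheory.Limits AlgebraicGeometry TopologicalSpace

noncomputable section

namespace Groth.L22.Inter

open Groth.L03.Euler Groth.L16
open Groth.L16.CohSupport (len len_add len_congr len_eq_zero_iff len_ne_top)

theorem add_one_le_of_lt {t : WithBot ℕ∞} {d : ℕ} (h : t < d) : t + 1 ≤ d := by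
  induction t using WithBot.recBotCoe with
  | bot => simp
  | coe t =>
    have h' : t < (d : ℕ∞) := WithBot.coe_lt_coe.1 h
    change ((t + 1 : ℕ∞) : WithBot ℕ∞) ≤ ((d : ℕ∞) : WithBot ℕ∞)
    exact WithBot.coe_le_coe.2 (Order.add_one_le_of_lt h')

variable {X : Scheme.{u}}

/-- A point with closure of maximal dimension has no other generisation. -/
theorem eq_of_specializes_top {T : Set X} (hT : IsClosed T) {d : ℕ}
    (hd : topologicalKrullDim T ≤ d) {x z : X} (hx : topologicalKrullDim (closure ({x} : Set X)) = d)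
    (hz : z ∈ T) (hzx : z ⤳ x) : z = x := by
  by_contra hne
  have hne' : closure ({x} : Set X) ≠ closure {z} := fun e =>
    hne ((show IsGenericPoint x (closure {z}) from e).eq isGenericPoint_closure).symm
  have h1 := (topologicalKrullDim_add_one_le isClosed_closure isIrreducible_singleton.closure
    (specializes_iff_closure_subset.1 hzx) hne').trans
    ((topologicalKrullDim_set_mono (closure_minimal (Set.singleton_subset_iff.2 hz) hT)).trans hd)
  rw [hx] at h1
  change (((d : ℕ∞) + 1 : ℕ∞) : WithBot ℕ∞) ≤ ((d : ℕ∞) : WithBot ℕ∞) at h1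
  have h2 := WithBot.coe_le_coe.1 h1
  exact absurd h2 (not_le.2 ((ENat.lt_add_one_iff (ENat.natCast_ne_top d)).2 le_rfl))

/-- The points of `T` with closure of dimension `d` are finite in number. -/
theorem finite_top [NoetherianSpace X] {T : Set X} (hT : IsClosed T) {d : ℕ}
    (hd : topologicalKrullDim T ≤ d) :
    {x : X | x ∈ T ∧ topologicalKrullDim (closure ({x} : Set X)) = (d : WithBot ℕ∞)}.Finite := by
  obtain ⟨S, hSf, hSc, hSi, hSu⟩ := NoetherianSpace.exists_finite_set_isClosed_irreducible hT
  have hg : ∀ t ∈ S, ∃ g : X, IsGenericPoint g t := fun t ht => QuasiSober.sober (hSi t ht) (hSc t ht)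
  choose g hg using hg
  refine (hSf.dependent_image g).subset fun x ⟨hxT, hx⟩ => ?_
  obtain ⟨t, ht, hxt⟩ : x ∈ ⋃₀ S := hSu ▸ hxT
  exact ⟨t, ht, eq_of_specializes_top hT hd hx (hSu ▸ ⟨t, ht, (hg t ht).mem⟩) ((hg t ht).specializes hxt)⟩

variable (k : Type u) [Field k] [X.Over (Spec (CommRingCat.of k))] [IsProper (X ↘ Spec (CommRingCat.of k))]
  {r : ℕ} {L : Fin r → X.Modules} (hL : ∀ i, PicF.IsInvertible (L i))

include hL

/-- `χ(F ⊗ L^n)` is the sum of the contributions of the top points, up to lower degree. -/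
theorem twEuler_sub_sum_mem {T : Set X} (hT : IsClosed T) {d : ℕ} (hd : topologicalKrullDim T ≤ d)
    (S : Finset X) (hS : ∀ x, x ∈ S ↔ x ∈ T ∧ topologicalKrullDim (closure ({x} : Set X)) = (d : WithBot ℕ∞))
    (G : X → X.Modules) (hG : ∀ y ∈ S, Coh.IsCoh (G y) ∧ CohB1.support (G y) ⊆ closure {y} ∧ len y (G y) = 1)
    {F : X.Modules} (hF : Coh.IsCoh F) (hFT : CohB1.support F ⊆ T) :
    twEuler k L F - ∑ y ∈ S, ((len y F).toNat : ℚ) • twEuler k L (G y) ∈ polyFun r d := by
  classical
  haveI : IsLocallyNoetherian X := LocallyOfFiniteType.isLocallyNoetherian (X ↘ Spec (CommRingCat.of k))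
  haveI : CompactSpace X := QuasiCompact.compactSpace_of_compactSpace (X ↘ Spec (CommRingCat.of k))
  haveI : IsNoetherian X := {}
  let R : X.Modules → (Fin r → ℕ) → ℚ := fun F => ∑ y ∈ S, ((len y F).toNat : ℚ) • twEuler k L (G y)
  let P : X.Modules → Prop := fun F => twEuler k L F - R F ∈ polyFun r d
  have hnt : ∀ {M : X.Modules}, Coh.IsCoh M → CohB1.support M ⊆ T → ∀ y ∈ S, len y M ≠ ⊤ :=
    fun {M} hM hMT y hy => len_ne_top hM fun z hz hzy =>
      eq_of_specializes_top hT hd ((hS y).1 hy).2 (hMT hz) hzy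
  refine Devissage.devissage P hT ?_ ?_ ?_ ?_ hF hFT
  · rintro M N ⟨e⟩ hM
    show twEuler k L N - R N ∈ polyFun r d
    rw [← twEuler_iso k L e, show R N = R M from Finset.sum_congr rfl fun y _ => by rw [len_congr e]]
    exact hM
  · intro M hM
    have h0 : R M = 0 := Finset.sum_eq_zero fun y _ => by
      rw [(len_eq_zero_iff y M).2 (by rw [(Groth.L21.Mod.isZero_iff_support_eq_empty M).1 hM]; exact id)]
      simp
    show twEuler k L M - R M ∈ polyFun r d
    rw [twEuler_of_isZero k hL hM, h0, sub_zero]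
    exact Submodule.zero_mem _
  · intro A hA h₁ h₂ h₃ hsupp
    obtain ⟨hs1, hs3⟩ := Devissage.support_union hA
    have b : R A.X₂ = R A.X₁ + R A.X₃ := by
      simp only [R, ← Finset.sum_add_distrib]
      refine Finset.sum_congr rfl fun y hy => ?_
      rw [len_add hA y, ENat.toNat_add (hnt h₁ (hs1.trans hsupp) y hy) (hnt h₃ (hs3.trans hsupp) y hy),
        ← add_smul]
      push_cast
      rfl
    have e : twEuler k L A.X₂ - R A.X₂ = (twEuler k L A.X₁ - R A.X₁) + (twEuler k L A.X₃ - R A.X₃) := by
      rw [twEuler_add k hL hA h₁ h₂ h₃, b]; abel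
    show (twEuler k L A.X₁ - R A.X₁ ∈ polyFun r d → twEuler k L A.X₂ - R A.X₂ ∈ polyFun r d →
        twEuler k L A.X₃ - R A.X₃ ∈ polyFun r d) ∧
      (twEuler k L A.X₁ - R A.X₁ ∈ polyFun r d → twEuler k L A.X₃ - R A.X₃ ∈ polyFun r d →
        twEuler k L A.X₂ - R A.X₂ ∈ polyFun r d) ∧
      (twEuler k L A.X₂ - R A.X₂ ∈ polyFun r d → twEuler k L A.X₃ - R A.X₃ ∈ polyFun r d →
        twEuler k L A.X₁ - R A.X₁ ∈ polyFun r d)
    rw [e]
    exact ⟨fun a b => (Submodule.add_mem_iff_right _ a).1 b, fun a c => Submodule.add_mem _ a c,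
      fun b c => (Submodule.add_mem_iff_left _ c).1 b⟩
  · intro y hy
    by_cases hyS : y ∈ S
    · obtain ⟨hGc, hGs, hGl⟩ := hG y hyS
      refine ⟨G y, hGc, ?_, hGs, hGl⟩
      show twEuler k L (G y) - R (G y) ∈ polyFun r d
      have : R (G y) = twEuler k L (G y) := by
        simp only [R]
        rw [Finset.sum_eq_single y, hGl]
        · simp
        · intro z hz hzy
          rw [(len_eq_zero_iff z (G y)).2 fun hmem =>
            hzy (eq_of_specializes_top hT hd ((hS z).1 hz).2 hy (specializes_iff_mem_closure.2 (hGs hmem))).symm]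
          simp
        · exact fun h => absurd hyS h
      rw [this, sub_self]
      exact Submodule.zero_mem _
    · obtain ⟨Z, i, hi, hZ, hgen, hrange⟩ := CohClosedPush.exists_integral y
      haveI : IsLocallyNoetherian Z := LocallyOfFiniteType.isLocallyNoetherian i
      let G₀ := (Coh.push i).obj (Coh.structureModule Z)
      have hG₀ : Coh.IsCoh G₀ := CohClosedPush.isCoh_push i CohClosedPush.isCoh_structure
      have hsG : CohB1.support G₀ ⊆ closure {y} :=
        (CohClosedPush.support_push_subset i _).trans hrange.le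
      refine ⟨G₀, hG₀, ?_, hsG, hgen ▸ CohClosedPush.len_push_structure i⟩
      show twEuler k L G₀ - R G₀ ∈ polyFun r d
      have hlt : topologicalKrullDim (closure ({y} : Set X)) < d :=
        lt_of_le_of_ne ((topologicalKrullDim_set_mono (closure_minimal (Set.singleton_subset_iff.2 hy) hT)).trans hd)
          fun e => hyS ((hS y).2 ⟨hy, e⟩)
      have h0 : R G₀ = 0 := Finset.sum_eq_zero fun z hz => by
        rw [(len_eq_zero_iff z G₀).2 fun hmem => hyS (by
          rw [eq_of_specializes_top hT hd ((hS z).1 hz).2 hy (specializes_iff_mem_closure.2 (hsG hmem))]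
          exact hz)]
        simp
      rw [h0, sub_zero]
      exact twEuler_mem k hL d G₀ hG₀
        ((add_le_add_left (topologicalKrullDim_set_mono hsG) 1).trans (add_one_le_of_lt hlt))

/-- Modules with the same lengths at the top points have the same twists up to lower degree. -/
theorem twEuler_sub_mem_of_len {T : Set X} (hT : IsClosed T) {d : ℕ} (hd : topologicalKrullDim T ≤ d)
    {A B : X.Modules} (hA : Coh.IsCoh A) (hAT : CohB1.support A ⊆ T) (hB : Coh.IsCoh B)
    (hBT : CohB1.support B ⊆ T)
    (h : ∀ x ∈ T, topologicalKrullDim (closure ({x} : Set X)) = (d : WithBot ℕ∞) → len x A = len x B) :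
    twEuler k L A - twEuler k L B ∈ polyFun r d := by
  classical
  haveI : IsLocallyNoetherian X := LocallyOfFiniteType.isLocallyNoetherian (X ↘ Spec (CommRingCat.of k))
  haveI : CompactSpace X := QuasiCompact.compactSpace_of_compactSpace (X ↘ Spec (CommRingCat.of k))
  haveI : IsNoetherian X := {}
  let S := (finite_top hT hd).toFinset
  have hS : ∀ x, x ∈ S ↔ x ∈ T ∧ topologicalKrullDim (closure ({x} : Set X)) = (d : WithBot ℕ∞) :=
    fun x => Set.Finite.mem_toFinset _
  have hG : ∀ y : X, ∃ G : X.Modules, Coh.IsCoh G ∧ CohB1.support G ⊆ closure {y} ∧ len y G = 1 := fun y => by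
    obtain ⟨Z, i, hi, hZ, hgen, hrange⟩ := CohClosedPush.exists_integral y
    haveI : IsLocallyNoetherian Z := LocallyOfFiniteType.isLocallyNoetherian i
    exact ⟨_, CohClosedPush.isCoh_push i CohClosedPush.isCoh_structure,
      (CohClosedPush.support_push_subset i _).trans hrange.le, hgen ▸ CohClosedPush.len_push_structure i⟩
  choose G hG using hG
  have e : (∑ y ∈ S, ((len y A).toNat : ℚ) • twEuler k L (G y)) =
      ∑ y ∈ S, ((len y B).toNat : ℚ) • twEuler k L (G y) :=
    Finset.sum_congr rfl fun y hy => by rw [h y ((hS y).1 hy).1 ((hS y).1 hy).2]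
  have a := twEuler_sub_sum_mem k hL hT hd S hS G (fun y _ => hG y) hA hAT
  have b := twEuler_sub_sum_mem k hL hT hd S hS G (fun y _ => hG y) hB hBT
  rw [e] at a
  have := Submodule.sub_mem _ a b
  rwa [sub_sub_sub_cancel_right] at this

end Groth.L22.Inter
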