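import Groth.Agent.L22.Inter.PushProper
import Groth.Agent.L22.Inter.Top
import Groth.Agent.L22.Inter.Cons
import Groth.Agent.L22.Inter.Coeff
import Groth.Agent.L22.CurveDeg.PushStalk
import Groth.Agent.L22.FibreDim
import Groth.Agent.L19.GenericFinite
import Groth.Agent.L07.EquidimQF
import Groth.Agent.L16.ProperFinite
import Groth.Agent.L22.VeryAmple.Over
import Groth.Agent.L16.Chow.Dense

/-!
Intersection numbers of pullbacks along proper morphisms of integral schemes.
-/

set_option autoImplicit false
set_option backward.isDefEq.respectTransparency false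
set_option linter.style.haveILetI false
universe u

open CategoryTheory CategoryTheory.Limits AlgebraicGeometry TopologicalSpace Opposite

noncomputable section

namespace Groth.L22.Inter

open Groth.L03.Euler Groth.L16.CohSupport

variable {X Y : Scheme.{u}}

theorem nonempty_tensorPows_congr {F : X.Modules} : ∀ {r : ℕ} {L L' : Fin r → X.Modules}
    (_ : ∀ i, Nonempty (L i ≅ L' i)) (n : Fin r → ℕ),
    Nonempty (Curv2.tensorPows F r L n ≅ Curv2.tensorPows F r L' n)
  | 0, _, _, _, _ => ⟨Iso.refl _⟩
  | _ + 1, L, L', h, n => by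
    obtain ⟨e⟩ := nonempty_tensorPows_congr (F := F) (fun i => h i.castSucc) (fun i => n i.castSucc)
    obtain ⟨e'⟩ := h (Fin.last _)
    exact ⟨Groth.L00.Tensor.tensorIso e (Groth.L00.Tensor.tensorPowIso e' _)⟩

/-- A stalk with a basis vector over a field has length one. -/
theorem len_eq_one_of_bijective [IsIntegral X] {M : X.Modules} (v : M.presheaf.stalk (genericPoint X))
    (hv : Function.Bijective fun a : X.presheaf.stalk (genericPoint X) => a • v) :
    len (genericPoint X) M = 1 := by
  letI : Field (X.presheaf.stalk (genericPoint X)) := inferInstanceAs (Field X.functionField)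
  have h : Module.length (X.presheaf.stalk (genericPoint X)) (X.presheaf.stalk (genericPoint X)) =
      len (genericPoint X) M :=
    (LinearEquiv.ofBijective (LinearMap.toSpanSingleton (X.presheaf.stalk (genericPoint X))
      (M.presheaf.stalk (genericPoint X)) v) hv).length_eq
  rw [← h, Module.length_eq_finrank, Module.finrank_self]
  rfl

theorem len_structure [IsIntegral X] : len (genericPoint X) (Coh.structureModule X) = 1 :=
  len_eq_one_of_bijective _ (Groth.L21.RR.bijective_smul_one (genericPoint X))

/-- Modules of generic length one push forward with the same generic length. -/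
theorem len_push_of_len_one [IsIntegral X] [IsIntegral Y] (f : X ⟶ Y) (hf : IsClosedMap f)
    (hξ : f (genericPoint X) = genericPoint Y)
    (huniq : ∀ x', f x' = genericPoint Y → x' = genericPoint X) {M : X.Modules}
    (hM : len (genericPoint X) M = 1) :
    (len (genericPoint Y) ((Scheme.Modules.pushforward f).obj M)).toNat = f.residueDegree (genericPoint X) := by
  rw [← Groth.L22.CurveDeg.len_push_structure_eq_residueDegree f hf hξ huniq, ← hξ]
  congr 1
  let x := genericPoint X
  have hx : ∀ x', f x' = f x → x' = x := fun x' h => huniq x' (h.trans hξ)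
  letI : Field (X.presheaf.stalk x) := inferInstanceAs (Field X.functionField)
  have hlen : ∀ N : X.Modules, len (f x) ((Scheme.Modules.pushforward f).obj N) =
      Module.length (Y.presheaf.stalk (f x))
        ((ModuleCat.restrictScalars (Groth.L00.PullStalk.φ f x)).obj ((Groth.L00.Stk.F X x).obj N)) := fun N => by
    haveI : IsIso (Groth.L17.ClosedPush.cHom f N x) :=
      (ConcreteCategory.isIso_iff_bijective _).2 (Groth.L22.CurveDeg.c₀_bijective_of_fiber f hf hx _)
    exact (asIso (Groth.L17.ClosedPush.cHom f N x)).toLinearEquiv.length_eq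
  have heq : Nonempty ((Coh.structureModule X).presheaf.stalk x ≃ₗ[X.presheaf.stalk x] M.presheaf.stalk x) := by
    have h1 : IsSimpleModule (X.presheaf.stalk x) (M.presheaf.stalk x) := Module.length_eq_one_iff.1 hM
    haveI := h1
    haveI := IsSimpleModule.nontrivial (X.presheaf.stalk x) (M.presheaf.stalk x)
    obtain ⟨v, hv⟩ := exists_ne (0 : M.presheaf.stalk x)
    exact ⟨(LinearEquiv.ofBijective (LinearMap.toSpanSingleton (X.presheaf.stalk x) _ (Groth.L21.RR.one X x))
      (Groth.L21.RR.bijective_smul_one x)).symm.trans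
      (LinearEquiv.ofBijective (LinearMap.toSpanSingleton (X.presheaf.stalk x) _ v)
        ⟨smul_left_injective _ hv, IsSimpleModule.toSpanSingleton_surjective _ hv⟩)⟩
  obtain ⟨e⟩ := heq
  rw [hlen, hlen]
  exact (((ModuleCat.restrictScalars (Groth.L00.PullStalk.φ f x)).mapIso
    (LinearEquiv.toModuleIso (X₁ := (Groth.L00.Stk.F X x).obj (Coh.structureModule X))
      e)).toLinearEquiv.length_eq).symm

variable (k : Type u) [Field k] [X.Over (Spec (CommRingCat.of k))] [Y.Over (Spec (CommRingCat.of k))]
  [IsProper (X ↘ Spec (CommRingCat.of k))] [IsProper (Y ↘ Spec (CommRingCat.of k))]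

/-- **Projection formula** for intersection numbers. -/
theorem altT_pullback [IsIntegral X] [IsIntegral Y] (f : X ⟶ Y) [IsProper f]
    (hf : f ≫ (Y ↘ Spec (CommRingCat.of k)) = X ↘ Spec (CommRingCat.of k))
    (hξ : f (genericPoint X) = genericPoint Y) {d : ℕ} (hd : topologicalKrullDim X = d)
    {L : Fin d → Y.Modules} (hL : ∀ i, PicF.IsInvertible (L i)) :
    altT k (fun i => (Scheme.Modules.pullback f).obj (L i)) (Coh.structureModule X) =
      (f.residueDegree (genericPoint X) : ℚ) * altT k L (Coh.structureModule Y) := by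
  haveI := Groth.L21.RR.isNoetherian_of_proper (X := X) k
  haveI := Groth.L21.RR.isNoetherian_of_proper (X := Y) k
  haveI : Y.IsSeparated := ⟨by rw [← terminal.comp_from (Y ↘ Spec (CommRingCat.of k))]; infer_instance⟩
  haveI : X.IsSeparated := ⟨by rw [← terminal.comp_from (X ↘ Spec (CommRingCat.of k))]; infer_instance⟩
  -- a projective modification
  obtain ⟨N, X', π, j, hj, hjπ, hπ, -, U, hU, hUiso⟩ :=
    Groth.L16.Chow.exists_chow_dense (X ↘ Spec (CommRingCat.of k))
  haveI := hj; haveI := hπ; haveI := hUiso
  letI oX' : X'.Over (Spec (CommRingCat.of k)) := ⟨π ≫ (X ↘ Spec (CommRingCat.of k))⟩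
  haveI : IsProper (X' ↘ Spec (CommRingCat.of k)) :=
    inferInstanceAs (IsProper (π ≫ (X ↘ Spec (CommRingCat.of k))))
  haveI := Groth.L21.RR.isNoetherian_of_proper (X := X') k
  haveI := Groth.L17.PushQCoh.hasInjectiveResolutions X'
  let q : X' ⟶ CohB1.ProjSpace N k := j ≫ (Groth.L16.ProjSpace.isoOver N k).inv
  haveI : IsProper j := by
    haveI : IsProper (j ≫ CohB1.ProjSpaceOver.toBase N (Spec (CommRingCat.of k))) := by rw [hjπ]; infer_instance
    haveI : IsSeparated (CohB1.ProjSpaceOver.toBase N (Spec (CommRingCat.of k))) := by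
      show IsSeparated (Limits.pullback.snd _ _)
      infer_instance
    exact IsProper.of_comp j (CohB1.ProjSpaceOver.toBase N (Spec (CommRingCat.of k)))
  haveI : IsClosedImmersion j := IsClosedImmersion.of_isPreimmersion j j.isClosedMap.isClosed_range
  haveI : IsAffineHom q := inferInstanceAs (IsAffineHom (j ≫ _))
  let A := (Scheme.Modules.pullback q).obj (Groth.L18.PUP.O1 N k)
  have hA : CohB1.IsAmple A :=
    Groth.L18.Ample.isAmple_pullback_of_isAffineHom q (Groth.L22.VeryAmple.isAmple_O1 N k)
  let O' := Coh.structureModule X'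
  have hO' : Coh.IsCoh O' := Groth.L16.CohClosedPush.isCoh_structure
  obtain ⟨n₁, hn₁⟩ := exists_acyclic_twist π hO' hA
  obtain ⟨n₂, hn₂⟩ := exists_acyclic_twist (π ≫ f) hO' hA
  let M := CohB1.tensorMod O' (CohB1.tensorPow A (n₁ + n₂))
  have hM : PicF.IsInvertible M :=
    Groth.L18.GenLoc.isInvertible_tensor (Groth.L18.Ample.isInvertible_structureModule X')
      (Groth.L18.Ample.isInvertible_tensorPow hA.1 _)
  have hMc : Coh.IsCoh M := Groth.L16.ProperFinite.isCoh_of_isInvertible hM
  haveI : Coh.IsQCoh M := hMc.1
  let G := (Scheme.Modules.pushforward π).obj M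
  have hG : Coh.IsCoh G := Groth.L16.Exist.isCoh_pushforward π hMc
  let H := (Scheme.Modules.pushforward f).obj G
  have hH : Coh.IsCoh H := Groth.L16.Exist.isCoh_pushforward f hG
  let L' := fun i => (Scheme.Modules.pullback f).obj (L i)
  have hL' : ∀ i, PicF.IsInvertible (L' i) := fun i => Groth.L18.Ample.isInvertible_pullback f (hL i)
  -- the two computations on the modification
  have key : twEuler k L' G = twEuler k L H := by
    funext n
    have h1 := twEuler_push_of_acyclic k π rfl hL' M
      (hn₁ (n₁ + n₂) (Nat.le_add_right _ _)) n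
    have h2 := twEuler_push_of_acyclic k (π ≫ f) (by rw [Category.assoc, hf]; rfl) hL M
      (hn₂ (n₁ + n₂) (Nat.le_add_left _ _)) n
    rw [h1]
    refine Eq.trans ?_ ((h2.symm).trans (congrFun (twEuler_iso k L
      (((Scheme.Modules.pushforwardComp π f).app M).symm)) n))
    obtain ⟨e⟩ := nonempty_tensorPows_congr (F := Coh.structureModule X')
      (fun i => (⟨(Scheme.Modules.pullbackComp π f).app (L i)⟩ :
        Nonempty ((Scheme.Modules.pullback π).obj (L' i) ≅ (Scheme.Modules.pullback (π ≫ f)).obj (L i)))) n
    exact congrArg (Int.cast : ℤ → ℚ) (euler_iso (Groth.L00.Tensor.tensorIso (Iso.refl M) e))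
  -- upstairs
  let ξ := genericPoint X
  have hGlen : len ξ G = 1 := by
    obtain ⟨V, e, hV, he⟩ := Groth.L16.ProperFinite.exists_frame_push π M hM U hU.nonempty
    refine len_eq_one_of_bijective (M := G) _ (Groth.L21.RR.bijective_germ_frame he
      (((genericPoint_spec X).mem_open_set_iff V.2).2 ?_))
    obtain ⟨y, hy⟩ := hV
    exact ⟨y, trivial, hy⟩
  have hdX : topologicalKrullDim (Set.univ : Set X) ≤ (d : WithBot ℕ∞) :=
    (Topology.IsInducing.subtypeVal.topologicalKrullDim_le).trans hd.le
  have hup : altT k L' (Coh.structureModule X) = altT k L' G := by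
    have h := alt_eq_zero le_rfl (twEuler_sub_mem_of_len k hL' isClosed_univ hdX
      (A := Coh.structureModule X) (B := G) Groth.L16.CohClosedPush.isCoh_structure (Set.subset_univ _)
      hG (Set.subset_univ _) fun x _ hx => ?_)
    · rwa [map_sub, sub_eq_zero] at h
    · obtain rfl : x = genericPoint X := Groth.L07.EquidimQF.eq_genericPoint_of_dim_le hd.le hx.ge
      rw [hGlen, len_structure]
  -- downstairs
  let ζ := genericPoint Y
  obtain ⟨a, b, ha, hb, hab⟩ := Groth.L22.FibreDim.exists_dim_closure_add k f hf ξ
  have hξu : closure ({ξ} : Set X) = Set.univ := (genericPoint_spec X)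
  have hY : topologicalKrullDim Y = (a : WithBot ℕ∞) := by
    rw [← ha, hξ, show closure ({genericPoint Y} : Set Y) = Set.univ from genericPoint_spec Y]
    exact ((Homeomorph.Set.univ Y).isHomeomorph.topologicalKrullDim_eq).symm
  have hdab : d = a + b := by
    have : topologicalKrullDim (closure ({ξ} : Set X)) = topologicalKrullDim X := by
      rw [hξu]; exact (Homeomorph.Set.univ X).isHomeomorph.topologicalKrullDim_eq
    rw [this, hd] at hab
    exact_mod_cast hab
  have had : topologicalKrullDim (Set.univ : Set Y) ≤ (a : WithBot ℕ∞) :=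
    (Topology.IsInducing.subtypeVal.topologicalKrullDim_le).trans hY.le
  rw [hup, altT, key]
  rcases Nat.eq_zero_or_pos b with hb0 | hb0
  · obtain rfl : d = a := by omega
    have huniq : ∀ x', f x' = ζ → x' = ξ := fun x' hx' => by
      obtain ⟨a', b', ha', -, hab'⟩ := Groth.L22.FibreDim.exists_dim_closure_add k f hf x'
      rw [hx', show ζ = f ξ from hξ.symm, ha] at ha'
      refine Groth.L07.EquidimQF.eq_genericPoint_of_dim_le hd.le ?_
      rw [hab']
      have : d = a' := by exact_mod_cast ha'
      exact_mod_cast (show d ≤ a' + b' by omega)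
    have hlen : (len ζ H).toNat = f.residueDegree ξ :=
      len_push_of_len_one f f.isClosedMap hξ huniq hGlen
    have hS : ∀ y, y ∈ ({ζ} : Finset Y) ↔ y ∈ (Set.univ : Set Y) ∧
        topologicalKrullDim (closure ({y} : Set Y)) = (d : WithBot ℕ∞) := fun y => by
      rw [Finset.mem_singleton]
      refine ⟨fun h => ⟨trivial, ?_⟩, fun h => Groth.L07.EquidimQF.eq_genericPoint_of_dim_le hY.le h.2.ge⟩
      rw [h, show ζ = f ξ from hξ.symm, ha]
    have h := alt_eq_zero le_rfl (twEuler_sub_sum_mem k hL isClosed_univ had {ζ} hS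
      (fun _ => Coh.structureModule Y)
      (fun y hy => ⟨Groth.L16.CohClosedPush.isCoh_structure, by
        rw [Finset.mem_singleton.1 hy, show closure ({ζ} : Set Y) = Set.univ from genericPoint_spec Y]
        exact Set.subset_univ _, by rw [Finset.mem_singleton.1 hy]; exact len_structure⟩)
      hH (Set.subset_univ _))
    rw [Finset.sum_singleton, map_sub, sub_eq_zero, map_smul, hlen] at h
    exact h
  · have hdeg : f.residueDegree ξ = 0 := by
      by_contra hne
      letI := (f.residueFieldMap ξ).hom.toAlgebra
      have hfin : Module.Finite (Y.residueField (f ξ)) (X.residueField ξ) :=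
        Module.finite_of_finrank_pos (Nat.pos_of_ne_zero hne)
      have hsing : closure ({ξ} : Set X) ∩ f ⁻¹' {f ξ} = {ξ} := by
        refine Set.Subset.antisymm (fun x hx => ?_) (Set.singleton_subset_iff.2 ⟨subset_closure rfl, rfl⟩)
        exact Groth.L19.GenericFinite.eq_genericPoint_of_finite f hξ hfin (hx.2.trans hξ)
      rw [hsing] at hb
      haveI : DiscreteTopology ({ξ} : Set X) := inferInstance
      have hle : topologicalKrullDim ({ξ} : Set X) ≤ 0 := topologicalKrullDim_zero_of_discreteTopology _
      rw [hb] at hle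
      have : b ≤ 0 := by exact_mod_cast hle
      omega
    rw [hdeg, Nat.cast_zero, zero_mul]
    refine alt_eq_zero le_rfl (twEuler_mem k hL d H hH ?_)
    refine (add_le_add_left ((topologicalKrullDim_set_mono (Set.subset_univ _)).trans had) 1).trans ?_
    exact_mod_cast (show a + 1 ≤ d by omega)

end Groth.L22.Inter
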