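import Groth.Agent.L22.CurveDeg.Devissage
import Groth.Agent.L03.Euler.Poly
import Groth.Agent.L18.AmplePull
import Groth.Agent.L21.RR.Twist
import Groth.Agent.L16.Existence.Vanishing

/-!
Twisted Euler characteristics of direct images along affine morphisms.
-/

set_option autoImplicit false
set_option backward.isDefEq.respectTransparency false
universe u

open CategoryTheory CategoryTheory.Limits AlgebraicGeometry TopologicalSpace

noncomputable section

namespace Groth.L22.Inter

open Groth.L03.Euler

variable {X Z : Scheme.{u}}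

theorem nonempty_pullback_tensorPows (f : Z ⟶ X) : ∀ {r : ℕ} (L : Fin r → X.Modules) (n : Fin r → ℕ),
    Nonempty ((Scheme.Modules.pullback f).obj (Curv2.tensorPows (Coh.structureModule X) r L n) ≅
      Curv2.tensorPows (Coh.structureModule Z) r (fun i => (Scheme.Modules.pullback f).obj (L i)) n)
  | 0, _, _ => ⟨Groth.L29.LocFree.pullbackUnitIso f⟩
  | _ + 1, L, n => by
    obtain ⟨e⟩ := nonempty_pullback_tensorPows f (fun i => L i.castSucc) (fun i => n i.castSucc)
    exact ⟨(Groth.L29.DC.PullTensor.pullTensor f _ _).symm ≪≫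
      Groth.L00.Tensor.tensorIso e (Groth.L18.Ample.pullPow f _ _)⟩

variable (k : Type u) [Field k] [X.Over (Spec (CommRingCat.of k))] [Z.Over (Spec (CommRingCat.of k))]

theorem twEuler_push (f : Z ⟶ X) [IsAffineHom f] [X.IsSeparated]
    (hf : f ≫ (X ↘ Spec (CommRingCat.of k)) = Z ↘ Spec (CommRingCat.of k))
    {r : ℕ} {L : Fin r → X.Modules} (hL : ∀ i, PicF.IsInvertible (L i)) (M : Z.Modules) (hM : Coh.IsQCoh M)
    (n : Fin r → ℕ) :
    twEuler k L ((Scheme.Modules.pushforward f).obj M) n =
      twEuler k (fun i => (Scheme.Modules.pullback f).obj (L i)) M n := by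
  obtain ⟨e⟩ := nonempty_pullback_tensorPows f L n
  unfold twEuler
  refine congrArg (Int.cast : ℤ → ℚ) ?_
  rw [euler_iso (Groth.L00.Tensor.tensorComm ((Scheme.Modules.pushforward f).obj M) _),
    Groth.L22.CurveDeg.euler_tensor_push k f hf
      (Groth.L16.Existence.isFinLocFree_of_isInvertible (isInvertible_tensorPows hL n)) M hM,
    euler_iso (Groth.L00.Tensor.tensorIso e (Iso.refl M)),
    euler_iso (Groth.L00.Tensor.tensorComm _ M)]

end Groth.L22.Inter
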