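import Groth.Agent.L22.Inter.Push
import Groth.Agent.L17.CohSections
import Groth.Agent.L17.BC.FlatCrit
import Groth.Agent.L16.ProjEmb
import Groth.Agent.L16.Exist.PushPull

/-!
Euler characteristics of acyclic direct images along proper morphisms, and acyclicity of large twists.
-/

set_option autoImplicit false
set_option backward.isDefEq.respectTransparency false
set_option linter.style.haveILetI false
universe u

open CategoryTheory CategoryTheory.Limits AlgebraicGeometry TopologicalSpace Opposite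

noncomputable section

namespace Groth.L22.Inter

open Groth.L03.Euler

variable {X Y : Scheme.{u}}

/-- Cohomology of preimages of affine opens vanishes when the higher direct images do. -/
theorem subsingleton_HU_preimage (f : X ⟶ Y) [QuasiCompact f] [QuasiSeparated f]
    [HasInjectiveResolutions X.Modules] (M : X.Modules) [Coh.IsQCoh M] {V : Y.Opens} (hV : IsAffineOpen V)
    (q : ℕ) (h : IsZero ((Coh.Rpush f (q + 1)).obj M)) :
    Subsingleton (Groth.L17.HU (X := X.toTopCat) (f ⁻¹ᵁ V) (Coh.toAb M) (q + 1)) := by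
  haveI : Subsingleton ↑((Coh.toAb ((Coh.Rpush f (q + 1)).obj M)).obj.obj (op V)) :=
    subsingleton_of_forall_eq 0 fun t => congr($(congrArg (fun g => Scheme.Modules.Hom.app g V)
      (h.eq_of_src (𝟙 ((Coh.Rpush f (q + 1)).obj M)) 0)) t)
  exact (Groth.L17.CohSections.equiv f hV M (q + 1)).toEquiv.subsingleton

variable (k : Type u) [Field k] [X.Over (Spec (CommRingCat.of k))] [Y.Over (Spec (CommRingCat.of k))]

/-- Euler characteristics do not change along acyclic direct images. -/
theorem euler_push_of_acyclic (f : X ⟶ Y) [QuasiCompact f] [QuasiSeparated f] [Y.IsSeparated]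
    [HasInjectiveResolutions X.Modules]
    (hf : f ≫ (Y ↘ Spec (CommRingCat.of k)) = X ↘ Spec (CommRingCat.of k)) (M : X.Modules) [Coh.IsQCoh M]
    (h : ∀ q : ℕ, IsZero ((Coh.Rpush f (q + 1)).obj M)) :
    Curv2.euler k Y ((Coh.push f).obj M) = Curv2.euler k X M := by
  haveI : Coh.IsQCoh ((Coh.push f).obj M) := Groth.L16.QcqsPush.isQCoh_push M f
  let V : Y.affineOpens → Y.Opens := fun U => U.1
  have hV : ∀ (n : ℕ) (a : Fin (n + 1) → Y.affineOpens), IsAffineOpen (⨅ j, V (a j)) :=
    fun n a => IsAffineOpen.iInf fun j => (a j).2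
  unfold Curv2.euler
  refine finsum_congr fun p => ?_
  obtain ⟨e, he⟩ := Groth.L16.PushCompare.exists_HH_push f M V (iSup_affineOpens_eq_top Y)
    (fun n a q => subsingleton_HU_preimage f M (hV n a) q (h q))
    (fun n a q => subsingleton_of_forall_eq 0 (Groth.L17.hu_affine_eq_zero _ (hV n a) q)) p
  let e' : Coh.HH X M p ≃ₗ[k] Coh.HH Y ((Coh.push f).obj M) p :=
    { e with
      map_smul' := fun a x => by
        have h0 : Coh.toGlobal (X ↘ Spec (CommRingCat.of k)) a =
            (show Coh.Γtop X from f.appTop (Coh.toGlobal (Y ↘ Spec (CommRingCat.of k)) a)) :=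
          congrArg (fun g : X ⟶ Spec (CommRingCat.of k) => Coh.toGlobal g a) hf.symm
        exact (congrArg e (congrArg (fun c : Coh.Γtop X => c • x) h0)).trans
          (he (Coh.toGlobal (Y ↘ Spec (CommRingCat.of k)) a) x) }
  rw [e'.finrank_eq]

/-- Twisted Euler characteristics of acyclic direct images. -/
theorem twEuler_push_of_acyclic (f : X ⟶ Y) [QuasiCompact f] [QuasiSeparated f] [Y.IsSeparated]
    [HasInjectiveResolutions X.Modules]
    (hf : f ≫ (Y ↘ Spec (CommRingCat.of k)) = X ↘ Spec (CommRingCat.of k))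
    {r : ℕ} {L : Fin r → Y.Modules} (hL : ∀ i, PicF.IsInvertible (L i)) (M : X.Modules) [Coh.IsQCoh M]
    (h : ∀ q : ℕ, IsZero ((Coh.Rpush f (q + 1)).obj M)) (n : Fin r → ℕ) :
    twEuler k L ((Scheme.Modules.pushforward f).obj M) n =
      twEuler k (fun i => (Scheme.Modules.pullback f).obj (L i)) M n := by
  obtain ⟨e⟩ := nonempty_pullback_tensorPows f L n
  let E := Curv2.tensorPows (Coh.structureModule Y) r L n
  have hE : FlatMod.IsFinLocFree E :=
    Groth.L16.Existence.isFinLocFree_of_isInvertible (isInvertible_tensorPows hL n)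
  haveI := Groth.L17.ProjFormula.isIso_θ f E M hE
  haveI : Coh.IsQCoh ((Scheme.Modules.pullback f).obj E) :=
    Groth.L29.DC.PCQCoh.isQCoh_of_isFinLocFree (Groth.L29.LocFree.pullback f hE)
  haveI := Groth.L00.Tensor.isQCoh_tensorMod ((Scheme.Modules.pullback f).obj E) M
  have hz : ∀ q : ℕ, IsZero ((Coh.Rpush f (q + 1)).obj (CohB1.tensorMod ((Scheme.Modules.pullback f).obj E) M)) :=
    fun q => by
      obtain ⟨i⟩ := Groth.L17.ProjFormula.nonempty_Rpush_iso f (A := M) (N := E) hE (q + 1)
      exact IsZero.of_iso ((Groth.L00.Tensor.tensorLeftF E).map_isZero (h q)) i.symm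
  unfold twEuler
  refine congrArg (Int.cast : ℤ → ℚ) ?_
  rw [euler_iso (Groth.L00.Tensor.tensorComm ((Scheme.Modules.pushforward f).obj M) _)]
  change Curv2.euler k Y (CohB1.tensorMod E ((Scheme.Modules.pushforward f).obj M)) = _
  rw [euler_iso (asIso (Groth.L17.ClosedPush.θ f M E))]
  refine (euler_push_of_acyclic k f hf (CohB1.tensorMod ((Scheme.Modules.pullback f).obj E) M) hz).trans ?_
  rw [euler_iso (Groth.L00.Tensor.tensorIso e (Iso.refl M))]
  exact euler_iso (Groth.L00.Tensor.tensorComm _ M)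

omit [X.Over (Spec (CommRingCat.of k))] [Y.Over (Spec (CommRingCat.of k))] in
/-- Large twists by an ample module are acyclic for a proper morphism. -/
theorem exists_acyclic_twist (f : X ⟶ Y) [IsProper f] [IsLocallyNoetherian Y] [CompactSpace Y]
    [HasInjectiveResolutions X.Modules] {F A : X.Modules} (hF : Coh.IsCoh F) (hA : CohB1.IsAmple A) :
    ∃ n₀ : ℕ, ∀ n, n₀ ≤ n → ∀ q : ℕ,
      IsZero ((Coh.Rpush f (q + 1)).obj (CohB1.tensorMod F (CohB1.tensorPow A n))) := by
  have hamp := Groth.L16.ProjEmb.isRelAmple_of_ample f hA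
  choose W hW hxW using fun y : Y => show ∃ W : Y.Opens, IsAffineOpen W ∧ y ∈ W by
    obtain ⟨_, ⟨W, hW, rfl⟩, hxW, -⟩ :=
      Y.isBasis_affineOpens.exists_subset_of_mem_open (Set.mem_univ y) isOpen_univ
    exact ⟨W, hW, hxW⟩
  obtain ⟨T, hT⟩ := isCompact_univ.elim_finite_subcover (fun y : Y => (W y : Set Y)) (fun y => (W y).2)
    (fun y _ => Set.mem_iUnion.2 ⟨y, hxW y⟩)
  choose n hn using fun i : T => Groth.L17.BC.FlatCrit.exists_isZero_Rpush_chart f (hW i.1) hF hamp hA.1
  obtain ⟨N, hN⟩ := (Set.finite_range n).bddAbove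
  refine ⟨N, fun m hm q => Groth.L21.Mod.isZero_of_restrict (fun t : T => (hW t.1).fromSpec) (fun z => ?_) _
    fun t => hn t m ((hN ⟨t, rfl⟩).trans hm) (q + 1) (Nat.succ_pos q)⟩
  obtain ⟨z', hz', hzz⟩ := Set.mem_iUnion₂.1 (hT (Set.mem_univ z))
  exact ⟨⟨z', hz'⟩, (hW z').opensRange_fromSpec.ge hzz⟩

end Groth.L22.Inter
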